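import Groth.Agent.MultDefLib.Mult
import Groth.Agent.GrpSchLib.MultTypeLft
import Groth.Agent.MultTypeLib.QuasiIso
import Groth.Agent.MultLift19.Bridge

/-!
# Groups of multiplicative type split etale locally
-/

universe u

open CategoryTheory CategoryTheory.Limits MonoidalCategory CartesianMonoidalCategory MonObj GrpObj AlgebraicGeometry
open TensorProduct

set_option backward.isDefEq.respectTransparency false
set_option linter.style.haveILetI false

noncomputable section

namespace Groth.Agent.ConjEtale19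

open GrpSchLib.AffineHopf (sp)

theorem exists_etale_split_affine {R : Type u} [CommRing R] {H : Over (Spec (CommRingCat.of R))} [GrpObj H]
    (hH : SGA3x.IsMultTypeFT H) (p : PrimeSpectrum R) :
    ∃ (B : Type u) (_ : CommRing B) (_ : Algebra R B) (y : PrimeSpectrum B) (M : Type) (_ : AddCommGroup M),
      Algebra.Etale R B ∧ y.asIdeal.comap (algebraMap R B) = p.asIdeal ∧ AddGroup.FG M ∧
      Nonempty (Grp.mk (Red.bc (Spec.map (CommRingCat.ofHom (algebraMap R B))) H) ≅
        Grp.mk (sp B (MonoidAlgebra B (Multiplicative M)))) := by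
  obtain ⟨A, _, _, hA, ⟨e⟩⟩ := MultDefLib.exists_hopf_multType (MultDefLib.multLoc_of_multTypeFT hH)
  have hft : Algebra.FiniteType R A := by
    haveI := GrpSchLib.MultTypeLft.lft hH
    have h2 : LocallyOfFiniteType (sp R A).hom := by
      rw [← Over.w (MultDefLib.overIso e).hom]
      haveI : IsIso (MultDefLib.overIso e).hom.left :=
        inferInstanceAs (IsIso ((Over.forget _).map (MultDefLib.overIso e).hom))
      infer_instance
    exact RingHom.finiteType_algebraMap.mp ((HasRingHomProperty.Spec_iff (P := @LocallyOfFiniteType)).mp h2)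
  obtain ⟨s, hs, hq⟩ := MultTypeLib.isQuasiIsotrivial_of_isMultType hft hA
  obtain ⟨f, hf, hfp⟩ : ∃ f ∈ s, f ∉ p.asIdeal := by
    by_contra hne
    push Not at hne
    exact p.isPrime.ne_top (top_le_iff.mp (hs ▸ Ideal.span_le.mpr hne))
  let Rf := Localization.Away f
  obtain ⟨B, _, _, hB, hff, M₁, _, ⟨e₁⟩⟩ := hq f hf
  let _ : Algebra R B := ((algebraMap Rf B).comp (algebraMap R Rf)).toAlgebra
  haveI : IsScalarTower R Rf B := IsScalarTower.of_algebraMap_eq fun _ => rfl
  haveI := hB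
  haveI : Algebra.Etale R Rf := Algebra.Etale.of_isLocalizationAway f
  haveI : Algebra.Etale R B := Algebra.Etale.comp R Rf B
  have hdis : Disjoint (Submonoid.powers f : Set R) (p.asIdeal : Set R) := by
    rw [Set.disjoint_left]
    rintro y ⟨n, rfl⟩ hy
    exact hfp (p.isPrime.mem_of_pow_mem n hy)
  have hq₀ := IsLocalization.isPrime_of_isPrime_disjoint (Submonoid.powers f) Rf _ p.isPrime hdis
  obtain ⟨y, hy⟩ := PrimeSpectrum.comap_surjective_of_faithfullyFlat (A := Rf) (B := B) ⟨_, hq₀⟩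
  have hy' : y.asIdeal.comap (algebraMap R B) = p.asIdeal := by
    rw [IsScalarTower.algebraMap_eq R Rf B, ← Ideal.comap_comap,
      show y.asIdeal.comap (algebraMap Rf B) = _ from congrArg PrimeSpectrum.asIdeal hy]
    exact IsLocalization.comap_map_of_isPrime_disjoint (Submonoid.powers f) Rf p.isPrime hdis
  haveI : Nontrivial B := ⟨⟨0, 1, fun h => y.isPrime.ne_top (y.asIdeal.eq_top_iff_one.mpr (h ▸ y.asIdeal.zero_mem))⟩⟩
  let e₂ : B ⊗[R] A ≃ₐc[B] MonoidAlgebra B M₁ := (MultTypeLib.baseChangeTrans (R := R) Rf B A).trans e₁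
  haveI := hft
  haveI : Group.FG M₁ := Group.fg_iff_monoid_fg.mpr (MonoidAlgebra.finiteType_iff_fg.mp
    (Algebra.FiniteType.equiv (inferInstance : Algebra.FiniteType B (B ⊗[R] A)) (e₂ : _ ≃ₐ[B] _)))
  obtain ⟨M, _, hM, ⟨φ⟩⟩ := MultLift19.exists_small_fg M₁
  refine ⟨B, inferInstance, inferInstance, y, M, inferInstance, inferInstance, hy', hM, ?_⟩
  obtain ⟨k₁⟩ := GrpSchLib.MultTypeBC.bc_iso (Spec.map (CommRingCat.ofHom (algebraMap R B))) e
  obtain ⟨k₂⟩ := GrpSchLib.AffineHopf.nonempty_bc_sp (R := R) B A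
  let u : MonoidAlgebra B M₁ ≃ₐc[B] MonoidAlgebra B (Multiplicative M) := BialgEquiv.ofBijective
    (MonoidAlgebra.mapDomainBialgHom B φ.toMonoidHom) (Function.bijective_iff_has_inverse.mpr
      ⟨MonoidAlgebra.mapDomainBialgHom B φ.symm.toMonoidHom,
        fun x => by rw [MonoidAlgebra.mapDomainBialgHom_mapDomainBialgHom]; simp,
        fun x => by rw [MonoidAlgebra.mapDomainBialgHom_mapDomainBialgHom]; simp⟩)
  exact ⟨k₁.symm ≪≫ k₂ ≪≫ GrpSchLib.AffineHopf.spIso (e₂.trans u).symm⟩

/-- Near every point a group of multiplicative type and finite type becomes diagonalisable over an etale neighbourhood. -/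
theorem exists_etale_split {S : Scheme.{u}} {H : Over S} [GrpObj H] (hH : SGA3x.IsMultTypeFT H) (s : S) :
    ∃ (B : CommRingCat.{u}) (b : Spec B ⟶ S) (y : Spec B) (M : Type) (_ : AddCommGroup M),
      Etale b ∧ b.base y = s ∧ AddGroup.FG M ∧
      Nonempty (Grp.mk (Red.bc b H) ≅ Grp.mk (sp B (MonoidAlgebra B (Multiplicative M)))) := by
  obtain ⟨V, hV, hsV, -⟩ := exists_isAffineOpen_mem_and_subset (TopologicalSpace.Opens.mem_top s)
  let R := Γ(S, V)
  obtain ⟨p, hp⟩ : s ∈ Set.range hV.fromSpec := hV.range_fromSpec ▸ hsV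
  have hH' := GrpSchLib.MultTypeBC.isMultTypeFT_bc hV.fromSpec hH
  obtain ⟨B, _, _, y, M, _, hB, hy, hM, ⟨e⟩⟩ :=
    exists_etale_split_affine (R := R) (H := Red.bc hV.fromSpec H) hH' p
  let j := Spec.map (CommRingCat.ofHom (algebraMap R B))
  haveI : Etale j := HasRingHomProperty.Spec_iff.mpr (RingHom.etale_algebraMap.mpr hB)
  obtain ⟨e'⟩ := GrpSchLib.MultTypeBC.bc_bc j hV.fromSpec H
  refine ⟨CommRingCat.of B, j ≫ hV.fromSpec, y, M, inferInstance, inferInstance, ?_, hM, ⟨e'.symm ≪≫ e⟩⟩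
  rw [Scheme.Hom.comp_apply, ← hp]
  exact congrArg _ (PrimeSpectrum.ext hy)

end Groth.Agent.ConjEtale19

end
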